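import Cfsg.Agent.Base

/-!
The Kilmoyer-Solomon proof of the Feit-Higman theorem: the algebraic part.
-/

set_option autoImplicit false

namespace CL.FH

open Finset

/-- The alternating product of length `k` starting with `y i`. -/
def wA {R : Type*} [Monoid R] (y : Bool → R) : Bool → ℕ → R
  | _, 0 => 1
  | i, k + 1 => y i * wA y (!i) k

/-- The alternating product of length `k` ending with `x i`. -/
def wL {R : Type*} [Monoid R] (x : Bool → R) : Bool → ℕ → R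
  | _, 0 => 1
  | i, k + 1 => wL x (!i) k * x i

theorem wA_zero {R : Type*} [Monoid R] (y : Bool → R) (i : Bool) : wA y i 0 = 1 := rfl
theorem wA_succ {R : Type*} [Monoid R] (y : Bool → R) (i : Bool) (k : ℕ) :
    wA y i (k + 1) = y i * wA y (!i) k := rfl
theorem wL_zero {R : Type*} [Monoid R] (y : Bool → R) (i : Bool) : wL y i 0 = 1 := rfl
theorem wL_succ {R : Type*} [Monoid R] (y : Bool → R) (i : Bool) (k : ℕ) :
    wL y i (k + 1) = wL y (!i) k * y i := rfl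

/-- The sum over the dihedral group of order `2 * m`, organised by the letter `i`. -/
def cas {R₁ R₂ M : Type*} [Monoid R₁] [Monoid R₂] [AddCommGroup M] (m : ℕ) (x : Bool → R₁)
    (y : Bool → R₂) (i : Bool) (μ : R₁ → R₂ → M) : M :=
  ∑ k ∈ range m, (μ (wL x (!i) k) (wA y (!i) k) + μ (wL x i (k + 1)) (wA y i (k + 1)))

theorem cas_indep {R₁ R₂ M : Type*} [Monoid R₁] [Monoid R₂] [AddCommGroup M] {m : ℕ}
    {x : Bool → R₁} {y : Bool → R₂} (hx : wL x true m = wL x false m)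
    (hy : wA y true m = wA y false m) (μ : R₁ → R₂ → M) (i j : Bool) :
    cas m x y i μ = cas m x y j μ := by
  have key : cas m x y true μ = cas m x y false μ := by
    have h : ∀ i, ∑ k ∈ range m, μ (wL x i (k + 1)) (wA y i (k + 1)) =
        ∑ k ∈ range m, μ (wL x i k) (wA y i k) + μ (wL x i m) (wA y i m) - μ 1 1 := by
      intro i
      rw [← sum_range_succ (fun k => μ (wL x i k) (wA y i k)), sum_range_succ']
      simp [wL_zero, wA_zero]
    simp only [cas, sum_add_distrib, h, Bool.not_true, Bool.not_false, hx, hy]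
    abel
  cases i <;> cases j <;> simp [key]

section Key

variable {R₁ R₂ M : Type*} [Ring R₁] [Ring R₂] [Algebra ℂ R₁] [Algebra ℂ R₂] [AddCommGroup M]
  [Module ℂ M] {x : Bool → R₁} {y : Bool → R₂} {α : Bool → ℂ}

theorem cas_key (hx : ∀ i, x i * x i = α i • x i + 1) (hy : ∀ i, y i * y i = α i • y i + 1)
    (m : ℕ) (μ : R₁ →ₗ[ℂ] R₂ →ₗ[ℂ] M) (i : Bool) :
    cas m x y i (fun h T => μ (h * x i) T) = cas m x y i (fun h T => μ h (y i * T)) := by
  refine sum_congr rfl fun k _ => ?_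
  simp only [wL_succ, wA_succ]
  rw [mul_assoc, hx, ← mul_assoc (y i), hy]
  simp only [mul_add, add_mul, mul_one, one_mul, mul_smul_comm, smul_mul_assoc, map_add, map_smul,
    LinearMap.add_apply, LinearMap.smul_apply]
  abel

end Key

/-- Chebyshev-type coefficients. -/
noncomputable def u (ζ : ℂ) (k : ℕ) : ℂ := (ζ ^ k - ζ⁻¹ ^ k) / (ζ - ζ⁻¹)

theorem sub_inv_ne_zero {ζ : ℂ} (h0 : ζ ≠ 0) (h2 : ζ ^ 2 ≠ 1) : ζ - ζ⁻¹ ≠ 0 := by
  intro h
  apply h2
  rw [pow_two]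
  nth_rewrite 2 [sub_eq_zero.mp h]
  exact mul_inv_cancel₀ h0

theorem u_succ_succ {ζ : ℂ} (h0 : ζ ≠ 0) (k : ℕ) :
    u ζ (k + 2) = (ζ + ζ⁻¹) * u ζ (k + 1) - u ζ k := by
  simp only [u]
  rw [← mul_div_assoc, ← sub_div]
  congr 1
  have := mul_inv_cancel₀ h0
  linear_combination (ζ⁻¹ ^ k - ζ ^ k) * this

section Closed

variable {R : Type*} [Ring R] [Algebra ℂ R] {x : Bool → R} {α : Bool → ℂ} {ζ : ℂ}

theorem wA_closed (h0 : ζ ≠ 0) (h2 : ζ ^ 2 ≠ 1) (hx : ∀ i, x i * x i = α i • x i + 1)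
    (h3 : ∀ i, x i * x (!i) * x i = (ζ + ζ⁻¹) • x i - x (!i) + α (!i) • (1 : R)) (k : ℕ) : ∀ i,
    wA x i (2 * k) = u ζ k • (x i * x (!i)) + (u ζ (k + 1) - (ζ + ζ⁻¹) * u ζ k) • (1 : R) ∧
    wA x i (2 * k + 1) = u ζ (k + 1) • x i - u ζ k • x (!i) + (α (!i) * u ζ k) • (1 : R) := by
  have step : ∀ k, (∀ i, wA x i (2 * k) =
      u ζ k • (x i * x (!i)) + (u ζ (k + 1) - (ζ + ζ⁻¹) * u ζ k) • (1 : R)) → ∀ i,
      wA x i (2 * k + 1) = u ζ (k + 1) • x i - u ζ k • x (!i) + (α (!i) * u ζ k) • (1 : R) := by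
    intro k h i
    rw [wA_succ, h, Bool.not_not, mul_add, mul_smul_comm, mul_smul_comm, ← mul_assoc, h3, mul_one]
    module
  have heven : ∀ i, wA x i (2 * k) =
      u ζ k • (x i * x (!i)) + (u ζ (k + 1) - (ζ + ζ⁻¹) * u ζ k) • (1 : R) := by
    induction k with
    | zero => intro i; simp [wA_zero, u, div_self (sub_inv_ne_zero h0 h2)]
    | succ k ih =>
      intro i
      rw [show 2 * (k + 1) = 2 * k + 1 + 1 by ring, wA_succ, step k ih, Bool.not_not, mul_add, mul_sub,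
        mul_smul_comm, mul_smul_comm, mul_smul_comm, hx, mul_one, u_succ_succ h0]
      module
  exact fun i => ⟨heven i, step k heven i⟩

theorem wL_closed (h0 : ζ ≠ 0) (h2 : ζ ^ 2 ≠ 1) (hx : ∀ i, x i * x i = α i • x i + 1)
    (h3 : ∀ i, x i * x (!i) * x i = (ζ + ζ⁻¹) • x i - x (!i) + α (!i) • (1 : R)) (k : ℕ) : ∀ i,
    wL x i (2 * k) = u ζ k • (x (!i) * x i) + (u ζ (k + 1) - (ζ + ζ⁻¹) * u ζ k) • (1 : R) ∧
    wL x i (2 * k + 1) = u ζ (k + 1) • x i - u ζ k • x (!i) + (α (!i) * u ζ k) • (1 : R) := by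
  have step : ∀ k, (∀ i, wL x i (2 * k) =
      u ζ k • (x (!i) * x i) + (u ζ (k + 1) - (ζ + ζ⁻¹) * u ζ k) • (1 : R)) → ∀ i,
      wL x i (2 * k + 1) = u ζ (k + 1) • x i - u ζ k • x (!i) + (α (!i) * u ζ k) • (1 : R) := by
    intro k h i
    rw [wL_succ, h, Bool.not_not, add_mul, smul_mul_assoc, smul_mul_assoc, h3, one_mul]
    module
  have heven : ∀ i, wL x i (2 * k) =
      u ζ k • (x (!i) * x i) + (u ζ (k + 1) - (ζ + ζ⁻¹) * u ζ k) • (1 : R) := by
    induction k with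
    | zero => intro i; simp [wL_zero, u, div_self (sub_inv_ne_zero h0 h2)]
    | succ k ih =>
      intro i
      rw [show 2 * (k + 1) = 2 * k + 1 + 1 by ring, wL_succ, step k ih, Bool.not_not, add_mul, sub_mul,
        smul_mul_assoc, smul_mul_assoc, smul_mul_assoc, hx, one_mul, u_succ_succ h0]
      module
  exact fun i => ⟨heven i, step k heven i⟩

theorem braid_of_pow (h0 : ζ ≠ 0) (h2 : ζ ^ 2 ≠ 1) (hx : ∀ i, x i * x i = α i • x i + 1)
    (h3 : ∀ i, x i * x (!i) * x i = (ζ + ζ⁻¹) • x i - x (!i) + α (!i) • (1 : R)) {m : ℕ}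
    (hm : ζ ^ m = 1) (hodd : Odd m → α true = α false) :
    wA x true m = wA x false m ∧ wL x true m = wL x false m := by
  have hi := mul_inv_cancel₀ h0
  rcases Nat.even_or_odd' m with ⟨r, rfl | rfl⟩
  · have hu : u ζ r = 0 := by
      rw [u, div_eq_zero_iff, sub_eq_zero]
      left
      rw [inv_pow]
      exact eq_inv_of_mul_eq_one_left (by rw [← pow_add, ← two_mul, hm])
    simp [(wA_closed h0 h2 hx h3 r _).1, (wL_closed h0 h2 hx h3 r _).1, hu]
  · have hu : u ζ (r + 1) = -u ζ r := by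
      rw [u, u, ← neg_div]
      congr 1
      have e1 : ζ⁻¹ ^ r = ζ ^ (r + 1) := by
        rw [inv_pow]
        exact (eq_inv_of_mul_eq_one_left (by rw [← pow_add, ← hm]; congr 1; ring)).symm
      have e2 : ζ⁻¹ ^ (r + 1) = ζ ^ r := by
        rw [inv_pow]
        exact (eq_inv_of_mul_eq_one_left (by rw [← pow_add, ← hm]; congr 1; ring)).symm
      rw [e1, e2]
      ring
    simp only [(wA_closed h0 h2 hx h3 r _).2, (wL_closed h0 h2 hx h3 r _).2, hu,
      Bool.not_true, Bool.not_false, hodd ⟨r, rfl⟩]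
    constructor <;> module

end Closed

/-- The two-dimensional representation of the Hecke algebra. -/
noncomputable def rep (a : Bool → ℂ) (τ : ℂ) : Bool → Matrix (Fin 2) (Fin 2) ℂ
  | true => !![a true, 1; 0, -(a true)⁻¹]
  | false => !![-(a false)⁻¹, 0; τ + a true / a false + a false / a true, a false]

theorem rep_sq {a : Bool → ℂ} (ha : ∀ i, a i ≠ 0) (τ : ℂ) (i : Bool) :
    rep a τ i * rep a τ i = (a i - (a i)⁻¹) • rep a τ i + 1 := by
  have h1 := ha true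
  have h2 := ha false
  cases i <;> (ext r s; fin_cases r <;> fin_cases s <;> simp [rep] <;> field_simp <;> ring)

theorem rep_triple {a : Bool → ℂ} (ha : ∀ i, a i ≠ 0) (τ : ℂ) (i : Bool) :
    rep a τ i * rep a τ (!i) * rep a τ i =
      τ • rep a τ i - rep a τ (!i) + (a (!i) - (a (!i))⁻¹) • (1 : Matrix (Fin 2) (Fin 2) ℂ) := by
  have h1 := ha true
  have h2 := ha false
  cases i <;> (ext r s; fin_cases r <;> fin_cases s <;> simp [rep] <;> field_simp <;> ring)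

theorem scalar_of_commute {a : Bool → ℂ} (ha : ∀ i, a i ≠ 0) (ha' : ∀ i, a i ^ 2 + 1 ≠ 0) (τ : ℂ)
    (Z : Matrix (Fin 2) (Fin 2) ℂ) (hZ : ∀ i, Z * rep a τ i = rep a τ i * Z) :
    Z = Z 0 0 • (1 : Matrix (Fin 2) (Fin 2) ℂ) := by
  have h1 := ha true
  have h2 := ha false
  have e1 := congrFun (congrFun (hZ true) 1) 0
  have e2 := congrFun (congrFun (hZ true) 0) 1
  have e3 := congrFun (congrFun (hZ false) 0) 1
  simp [rep, Matrix.mul_apply, Fin.sum_univ_two] at e1 e2 e3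
  have z10 : Z 1 0 = 0 := by
    refine (mul_eq_zero.mp (?_ : Z 1 0 * (a true ^ 2 + 1) = 0)).resolve_right (ha' true)
    field_simp at e1
    linear_combination e1
  have z01 : Z 0 1 = 0 := by
    refine (mul_eq_zero.mp (?_ : Z 0 1 * (a false ^ 2 + 1) = 0)).resolve_right (ha' false)
    field_simp at e3
    linear_combination e3
  ext r s
  fin_cases r <;> fin_cases s <;> simp [z10, z01]
  simpa [z01] using e2.symm

theorem trace_even {a : Bool → ℂ} (ha : ∀ i, a i ≠ 0) (τ v w : ℂ) (i : Bool) :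
    Matrix.trace ((v • (rep a τ i * rep a τ (!i)) + w • (1 : Matrix (Fin 2) (Fin 2) ℂ)) *
      (v • (rep a τ (!i) * rep a τ i) + w • (1 : Matrix (Fin 2) (Fin 2) ℂ))) =
      v ^ 2 * ((a true - (a true)⁻¹) ^ 2 + (a false - (a false)⁻¹) ^ 2 +
        (a true - (a true)⁻¹) * (a false - (a false)⁻¹) * τ + 2) + 2 * v * w * τ + 2 * w ^ 2 := by
  have h1 := ha true
  have h2 := ha false
  cases i <;> simp [rep, Matrix.trace_fin_two, Matrix.mul_apply, Fin.sum_univ_two] <;>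
    field_simp <;> ring

theorem trace_odd {a : Bool → ℂ} (ha : ∀ i, a i ≠ 0) (τ v w : ℂ) (i : Bool) :
    Matrix.trace ((v • rep a τ i - w • rep a τ (!i) +
        ((a (!i) - (a (!i))⁻¹) * w) • (1 : Matrix (Fin 2) (Fin 2) ℂ)) *
      (v • rep a τ i - w • rep a τ (!i) +
        ((a (!i) - (a (!i))⁻¹) * w) • (1 : Matrix (Fin 2) (Fin 2) ℂ))) =
      2 * (v ^ 2 - τ * v * w + w ^ 2) + ((a i - (a i)⁻¹) * v + (a (!i) - (a (!i))⁻¹) * w) ^ 2 := by
  have h1 := ha true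
  have h2 := ha false
  cases i <;> simp [rep, Matrix.trace_fin_two, Matrix.mul_apply, Fin.sum_univ_two] <;>
    field_simp <;> ring

theorem sum_osc {z : ℂ} (h0 : z ≠ 0) (h1 : z ≠ 1) {m : ℕ} (hm : z ^ (2 * m) = 1) :
    ∑ k ∈ range m, ((z ^ k + z⁻¹ ^ k) + (z ^ (k + 1) + z⁻¹ ^ (k + 1))) = 0 := by
  have hi := mul_inv_cancel₀ h0
  have key : ∀ n : ℕ, (z - 1) * ∑ k ∈ range n, ((z ^ k + z⁻¹ ^ k) + (z ^ (k + 1) + z⁻¹ ^ (k + 1))) =
      (1 + z) * (z ^ n - z⁻¹ ^ n) := by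
    intro n
    induction n with
    | zero => simp
    | succ n ih =>
      rw [sum_range_succ, mul_add, ih]
      linear_combination (2 * z⁻¹ ^ n) * hi
  have e : z⁻¹ ^ m = z ^ m := by
    rw [inv_pow]
    exact (eq_inv_of_mul_eq_one_left (by rw [← pow_add, ← two_mul, hm])).symm
  have := key m
  rw [e, sub_self, mul_zero] at this
  exact (mul_eq_zero.mp this).resolve_left (sub_ne_zero.mpr h1)

/-- The total of the traces of `h' h` over the dihedral group. -/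
theorem cas_trace {a : Bool → ℂ} (ha : ∀ i, a i ≠ 0) {ζ : ℂ} (h0 : ζ ≠ 0) (h2 : ζ ^ 2 ≠ 1) {m : ℕ}
    (hm : ζ ^ m = 1) :
    (ζ - ζ⁻¹) ^ 2 * (cas m (rep a (ζ + ζ⁻¹)) (rep a (ζ + ζ⁻¹)) true (fun h T => Matrix.trace (T * h)) +
      cas m (rep a (ζ + ζ⁻¹)) (rep a (ζ + ζ⁻¹)) false (fun h T => Matrix.trace (T * h))) =
      8 * m * ((ζ - ζ⁻¹) ^ 2 - ((a true - (a true)⁻¹) ^ 2 + (a false - (a false)⁻¹) ^ 2 +
        (a true - (a true)⁻¹) * (a false - (a false)⁻¹) * (ζ + ζ⁻¹))) := by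
  set x := rep a (ζ + ζ⁻¹) with hx
  set α := a true - (a true)⁻¹ with hα
  set β := a false - (a false)⁻¹ with hβ
  set D := α ^ 2 + β ^ 2 + α * β * (ζ + ζ⁻¹) with hD
  have hne := sub_inv_ne_zero h0 h2
  have hterm : ∀ k, (ζ - ζ⁻¹) ^ 2 * (Matrix.trace (wA x true k * wL x true k) +
      Matrix.trace (wA x false k * wL x false k)) =
      4 * ((ζ - ζ⁻¹) ^ 2 - D) +
        (D + ((α ^ 2 + β ^ 2) * (ζ + ζ⁻¹) + 4 * α * β) / 2) * (ζ ^ k + ζ⁻¹ ^ k) +
        (D - ((α ^ 2 + β ^ 2) * (ζ + ζ⁻¹) + 4 * α * β) / 2) * ((-ζ) ^ k + (-ζ)⁻¹ ^ k) := by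
    intro k
    have hA := fun k => wA_closed h0 h2 (rep_sq ha (ζ + ζ⁻¹)) (rep_triple ha (ζ + ζ⁻¹)) k
    have hL := fun k => wL_closed h0 h2 (rep_sq ha (ζ + ζ⁻¹)) (rep_triple ha (ζ + ζ⁻¹)) k
    rcases Nat.even_or_odd' k with ⟨r, rfl | rfl⟩
    · rw [(hA r true).1, (hA r false).1, (hL r true).1, (hL r false).1, trace_even ha, trace_even ha,
        ← hα, ← hβ, ← hD, inv_neg, (even_two_mul r).neg_pow, (even_two_mul r).neg_pow]
      simp only [u, pow_succ, pow_mul', inv_pow]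
      have : ζ ^ r ≠ 0 := pow_ne_zero _ h0
      generalize ζ ^ r = z at *
      field_simp
      ring
    · rw [(hA r true).2, (hA r false).2, (hL r true).2, (hL r false).2, trace_odd ha, trace_odd ha,
        inv_neg, (odd_two_mul_add_one r).neg_pow, (odd_two_mul_add_one r).neg_pow]
      simp only [Bool.not_true, Bool.not_false, ← hα, ← hβ, hD]
      simp only [u, pow_succ, pow_mul', inv_pow]
      have : ζ ^ r ≠ 0 := pow_ne_zero _ h0
      generalize ζ ^ r = z at *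
      field_simp
      ring
  have h1 : ζ ≠ 1 := by rintro rfl; simp at h2
  have h1' : -ζ ≠ 1 := by
    intro h
    apply h2
    rw [← neg_sq, h, one_pow]
  have s1 := sum_osc h0 h1 (m := m) (by rw [pow_mul', hm, one_pow])
  have s2 := sum_osc (neg_ne_zero.mpr h0) h1' (m := m) (by
    rw [(even_two_mul m).neg_pow, pow_mul', hm, one_pow])
  simp only [cas, Bool.not_true, Bool.not_false]
  rw [← sum_add_distrib, mul_sum]
  rw [sum_congr rfl (g := fun k => 8 * ((ζ - ζ⁻¹) ^ 2 - D) +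
    (D + ((α ^ 2 + β ^ 2) * (ζ + ζ⁻¹) + 4 * α * β) / 2) *
      ((ζ ^ k + ζ⁻¹ ^ k) + (ζ ^ (k + 1) + ζ⁻¹ ^ (k + 1))) +
    (D - ((α ^ 2 + β ^ 2) * (ζ + ζ⁻¹) + 4 * α * β) / 2) *
      (((-ζ) ^ k + (-ζ)⁻¹ ^ k) + ((-ζ) ^ (k + 1) + (-ζ)⁻¹ ^ (k + 1))))
    (fun k _ => by linear_combination hterm k + hterm (k + 1))]
  rw [sum_add_distrib, sum_add_distrib, ← mul_sum, ← mul_sum, ← mul_sum, s1, s2]
  simp
  ring

end CL.FH
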