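import Cfsg.Agent.Base
import Cfsg.Agent.FH.Hecke

/-!
The Kilmoyer-Solomon proof of the Feit-Higman theorem: multiplicities and rationality.
-/

set_option autoImplicit false

namespace CL.FH

open Finset

theorem exists_rat_of_mul_self {n : Type*} [Fintype n] [DecidableEq n] [Nonempty n]
    (E : Matrix n n ℂ) (c : ℂ) (hE : E * E = c • E) (ht : Matrix.trace E = Fintype.card n) :
    ∃ r : ℚ, c = r := by
  have hn : (Fintype.card n : ℂ) ≠ 0 := Nat.cast_ne_zero.mpr Fintype.card_ne_zero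
  by_cases hc : c = 0
  · exact ⟨0, by simpa using hc⟩
  have hid : IsIdempotentElem (Matrix.toLin' (c⁻¹ • E)) := by
    rw [IsIdempotentElem, Module.End.mul_eq_comp, ← Matrix.toLin'_mul, Matrix.smul_mul,
      Matrix.mul_smul, hE, smul_smul, smul_smul, mul_assoc, inv_mul_cancel₀ hc, mul_one]
  have h1 := (LinearMap.IsIdempotentElem.isProj_range _ hid).trace
  rw [Matrix.trace_toLin'_eq, Matrix.trace_smul, ht, smul_eq_mul] at h1
  set k := Module.finrank ℂ (LinearMap.range (Matrix.toLin' (c⁻¹ • E)))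
  have hk : (k : ℂ) ≠ 0 := by
    rw [← h1]
    exact mul_ne_zero (inv_ne_zero hc) hn
  refine ⟨(Fintype.card n : ℚ) / k, ?_⟩
  push_cast
  rw [eq_div_iff hk, ← h1, mul_inv_cancel_left₀ hc]

theorem exists_rat_ratio {n : Type*} [Fintype n] [DecidableEq n] [Nonempty n]
    (y : Bool → Matrix n n ℂ) {a : Bool → ℂ} (ha : ∀ i, a i ≠ 0) (ha' : ∀ i, a i ^ 2 + 1 ≠ 0)
    (hy : ∀ i, y i * y i = (a i - (a i)⁻¹) • y i + 1) {m : ℕ} (hm0 : 0 < m)
    (hbraid : wA y true m = wA y false m)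
    (htr : ∀ i k, 0 < k → k ≤ m → Matrix.trace (wA y i k) = 0)
    (hodd : Odd m → a true = a false) {ζ : ℂ} (hm : ζ ^ m = 1) (h2 : ζ ^ 2 ≠ 1) :
    ∃ ρ : ℚ, (a true - (a true)⁻¹) ^ 2 + (a false - (a false)⁻¹) ^ 2 +
      (a true - (a true)⁻¹) * (a false - (a false)⁻¹) * (ζ + ζ⁻¹) = ρ * (ζ - ζ⁻¹) ^ 2 := by
  have h0 : ζ ≠ 0 := by
    rintro rfl
    rw [zero_pow hm0.ne'] at hm
    exact zero_ne_one hm
  set x := rep a (ζ + ζ⁻¹) with hxdef
  have hx : ∀ i, x i * x i = (a i - (a i)⁻¹) • x i + 1 := rep_sq ha _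
  obtain ⟨hbA, hbL⟩ := braid_of_pow (α := fun i => a i - (a i)⁻¹) h0 h2 hx (rep_triple ha _) hm
    (fun h => by simp only [hodd h])
  -- the operators `E b c`
  let μ : Fin 2 → Fin 2 → Matrix (Fin 2) (Fin 2) ℂ →ₗ[ℂ] Matrix n n ℂ →ₗ[ℂ] Matrix n n ℂ :=
    fun b c => LinearMap.mk₂ ℂ (fun h T => h b c • T) (fun h h' T => by simp [add_smul])
      (fun r h T => by simp [mul_smul]) (fun h T T' => by simp) (fun r h T => by rw [smul_comm])
  let E : Fin 2 → Fin 2 → Matrix n n ℂ := fun b c => cas m x y true (fun h T => h b c • T)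
  have hE1 : ∀ i b c, y i * E b c = ∑ d, x i d c • E b d := by
    intro i b c
    have e1 : y i * E b c = cas m x y true (fun h T => μ b c h (y i * T)) := by
      simp only [E, cas, mul_sum, mul_add, μ, LinearMap.mk₂_apply, Matrix.mul_smul]
    rw [e1, cas_indep hbL hbraid _ true i, ← cas_key hx hy, cas_indep hbL hbraid _ i true]
    simp only [E, cas, μ, LinearMap.mk₂_apply, Matrix.mul_apply, smul_sum, smul_add, sum_smul,
      smul_smul]
    rw [sum_comm]
    refine sum_congr rfl fun k _ => ?_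
    rw [sum_add_distrib]
    congr 1 <;> exact sum_congr rfl fun d _ => by rw [mul_comm]
  have hEk : ∀ k i b c, wA y i k * E b c = ∑ d, wA x i k d c • E b d := by
    intro k
    induction k with
    | zero =>
      intro i b c
      simp [wA_zero, Matrix.one_apply]
    | succ k ih =>
      intro i b c
      rw [wA_succ, mul_assoc, ih, mul_sum, wA_succ]
      simp only [Matrix.mul_smul, hE1, smul_sum, smul_smul, Matrix.mul_apply, sum_smul]
      rw [sum_comm]
      exact sum_congr rfl fun d _ => sum_congr rfl fun e _ => by rw [mul_comm]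
  -- the scalar matrices `Z b`
  let ν : Fin 2 → Matrix (Fin 2) (Fin 2) ℂ →ₗ[ℂ] Matrix (Fin 2) (Fin 2) ℂ →ₗ[ℂ]
      Matrix (Fin 2) (Fin 2) ℂ :=
    fun b => LinearMap.mk₂ ℂ (fun h T => T * Matrix.single b b 1 * h)
      (fun h h' T => by simp [mul_add]) (fun r h T => by simp) (fun h T T' => by simp [add_mul])
      (fun r h T => by simp)
  let Z : Fin 2 → Matrix (Fin 2) (Fin 2) ℂ :=
    fun b => cas m x x true (fun h T => T * Matrix.single b b 1 * h)
  have hZ : ∀ b, Z b = Z b 0 0 • (1 : Matrix (Fin 2) (Fin 2) ℂ) := by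
    intro b
    refine scalar_of_commute ha ha' (ζ + ζ⁻¹) _ fun i => ?_
    have e1 : Z b * x i = cas m x x true (fun h T => ν b (h * x i) T) := by
      simp only [Z, cas, sum_mul, add_mul, ν, LinearMap.mk₂_apply, mul_assoc]
    have e2 : x i * Z b = cas m x x true (fun h T => ν b h (x i * T)) := by
      simp only [Z, cas, mul_sum, mul_add, ν, LinearMap.mk₂_apply, mul_assoc]
    rw [e1, e2, cas_indep hbL hbA _ true i, cas_key hx hx, cas_indep hbL hbA _ i true]
  have hEE : ∀ b, E b b * E b b = Z b 0 0 • E b b := by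
    intro b
    have e1 : E b b * E b b = ∑ d, Z b d b • E b d := by
      have e2 : ∀ (h T : Matrix (Fin 2) (Fin 2) ℂ) d,
          (T * Matrix.single b b (1 : ℂ) * h : Matrix (Fin 2) (Fin 2) ℂ) d b = h b b * T d b := by
        intro h T d
        fin_cases b <;> simp [Matrix.mul_apply, Fin.sum_univ_two, Matrix.single] <;> ring
      conv_lhs => enter [1]; simp only [E, cas]
      simp only [Z, cas, sum_mul, add_mul, Matrix.smul_mul, hEk, Matrix.sum_apply, Matrix.add_apply,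
        e2, sum_smul, add_smul, smul_sum, smul_smul]
      rw [sum_comm]
      exact sum_congr rfl fun k _ => sum_add_distrib.symm
    rw [e1, sum_eq_single b]
    · conv_lhs => rw [hZ b]
      simp
    · intro d _ hd
      rw [hZ b]
      simp [Matrix.one_apply_ne hd]
    · simp
  have hEt : ∀ b, Matrix.trace (E b b) = Fintype.card n := by
    intro b
    simp only [E, cas, Matrix.trace_sum, Matrix.trace_add, Matrix.trace_smul]
    rw [sum_eq_single 0]
    · rw [htr true (0 + 1) (by omega) (by omega)]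
      simp [wL_zero, wA_zero]
    · intro k hk hk0
      have := mem_range.mp hk
      rw [htr _ k (by omega) (by omega), htr _ (k + 1) (by omega) (by omega)]
      simp
    · intro h
      exact absurd (mem_range.mpr hm0) h
  obtain ⟨r₀, hr₀⟩ := exists_rat_of_mul_self _ _ (hEE 0) (hEt 0)
  obtain ⟨r₁, hr₁⟩ := exists_rat_of_mul_self _ _ (hEE 1) (hEt 1)
  have hsum : cas m x x true (fun h T => Matrix.trace (T * h)) = 2 * (r₀ + r₁) := by
    have e1 : Matrix.trace (Z 0 + Z 1) = cas m x x true (fun h T => Matrix.trace (T * h)) := by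
      have e2 : (Matrix.single 0 0 1 + Matrix.single 1 1 1 : Matrix (Fin 2) (Fin 2) ℂ) = 1 := by
        ext r s
        fin_cases r <;> fin_cases s <;> simp
      simp only [Z, cas]
      rw [← sum_add_distrib, Matrix.trace_sum]
      refine sum_congr rfl fun k _ => ?_
      rw [add_add_add_comm, ← add_mul, ← mul_add, ← add_mul, ← mul_add, e2, mul_one, mul_one,
        Matrix.trace_add]
    rw [← e1, hZ 0, hZ 1, hr₀, hr₁]
    simp
    ring
  have hc := cas_trace ha h0 h2 hm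
  rw [← hxdef, cas_indep hbL hbA _ false true, hsum] at hc
  have hm' : (m : ℂ) ≠ 0 := Nat.cast_ne_zero.mpr hm0.ne'
  refine ⟨1 - (r₀ + r₁) / (2 * m), ?_⟩
  push_cast
  generalize (ζ - ζ⁻¹) ^ 2 = η at hc ⊢
  generalize (a true - (a true)⁻¹) ^ 2 + (a false - (a false)⁻¹) ^ 2 +
      (a true - (a true)⁻¹) * (a false - (a false)⁻¹) * (ζ + ζ⁻¹) = D at hc ⊢
  field_simp
  linear_combination hc / 4

theorem pow_eq_one_of_rat {ζ : ℂ} {m : ℕ} (hm0 : 0 < m) (hm : ζ ^ m = 1) {r : ℚ}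
    (hr : ζ + ζ⁻¹ = r) : ζ ^ 4 = 1 ∨ ζ ^ 6 = 1 := by
  have h0 : ζ ≠ 0 := by
    rintro rfl
    rw [zero_pow hm0.ne'] at hm
    exact zero_ne_one hm
  have hi : IsIntegral ℤ ζ := IsIntegral.of_pow hm0 (hm ▸ isIntegral_one)
  have hi' : IsIntegral ℤ ζ⁻¹ := IsIntegral.of_pow hm0 (by rw [inv_pow, hm, inv_one]; exact isIntegral_one)
  obtain ⟨k, hk⟩ := (hi.add hi').exists_int_iff_exists_rat.mp ⟨r, hr⟩
  have hn : ‖ζ‖ = 1 := Complex.norm_eq_one_of_pow_eq_one hm hm0.ne'
  have hk2 : |k| ≤ 2 := by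
    have : ‖(k : ℂ)‖ ≤ 2 := by
      rw [← hk]
      refine (norm_add_le _ _).trans ?_
      rw [norm_inv, hn]
      norm_num
    rw [Complex.norm_intCast] at this
    exact_mod_cast this
  have hq : ζ ^ 2 + 1 = k * ζ := by
    rw [← hk]
    field_simp
  obtain ⟨h1, h2⟩ := abs_le.mp hk2
  interval_cases k
  · left
    have : (ζ + 1) ^ 2 = 0 := by push_cast at hq; linear_combination hq
    have : ζ = -1 := eq_neg_of_add_eq_zero_left (pow_eq_zero_iff two_ne_zero |>.mp this)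
    rw [this]; norm_num
  · right
    push_cast at hq
    linear_combination (ζ - 1) * (ζ ^ 3 + 1) * hq
  · left
    push_cast at hq
    linear_combination (ζ ^ 2 - 1) * hq
  · right
    push_cast at hq
    linear_combination (ζ + 1) * (ζ ^ 3 - 1) * hq
  · left
    have : (ζ - 1) ^ 2 = 0 := by push_cast at hq; linear_combination hq
    have : ζ = 1 := sub_eq_zero.mp (pow_eq_zero_iff two_ne_zero |>.mp this)
    rw [this]; norm_num

/-- The Feit-Higman theorem, abstract form. -/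
theorem dvd_eight_or_dvd_six {n : Type*} [Fintype n] [DecidableEq n] [Nonempty n]
    (y : Bool → Matrix n n ℂ) {a : Bool → ℂ} {p : Bool → ℕ} (hp : ∀ i, 2 ≤ p i)
    (hap : ∀ i, a i ^ 2 = p i)
    (hy : ∀ i, y i * y i = (a i - (a i)⁻¹) • y i + 1) {m : ℕ} (hm0 : 0 < m)
    (hbraid : wA y true m = wA y false m)
    (htr : ∀ i k, 0 < k → k ≤ m → Matrix.trace (wA y i k) = 0)
    (hodd : Odd m → a true = a false) : m ∣ 8 ∨ m ∣ 6 := by
  have hp0 : ∀ i, (p i : ℂ) ≠ 0 := fun i => Nat.cast_ne_zero.mpr (by have := hp i; omega)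
  have ha : ∀ i, a i ≠ 0 := fun i h => hp0 i (by rw [← hap, h]; simp)
  have ha' : ∀ i, a i ^ 2 + 1 ≠ 0 := fun i => by
    rw [hap]
    exact_mod_cast Nat.succ_ne_zero (p i)
  have key := fun ζ => exists_rat_ratio y ha ha' hy hm0 hbraid htr hodd (ζ := ζ)
  have hα : ∀ i, ∃ r : ℚ, 0 < r ∧ (a i - (a i)⁻¹) ^ 2 = r := by
    intro i
    have h2 : (2 : ℚ) ≤ p i := by exact_mod_cast hp i
    refine ⟨((p i : ℚ) - 1) ^ 2 / p i, div_pos (pow_pos (by linarith) 2) (by linarith), ?_⟩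
    push_cast
    rw [← hap]
    have := ha i
    field_simp
  obtain ⟨r₁, hr₁, e₁⟩ := hα true
  obtain ⟨r₂, hr₂, e₂⟩ := hα false
  set α := a true - (a true)⁻¹
  set β := a false - (a false)⁻¹
  have hα0 : α ≠ 0 := fun h => hr₁.ne' (by rw [h] at e₁; exact_mod_cast (by simpa using e₁.symm))
  have hβ0 : β ≠ 0 := fun h => hr₂.ne' (by rw [h] at e₂; exact_mod_cast (by simpa using e₂.symm))
  have hζ := Complex.isPrimitiveRoot_exp m hm0.ne'
  set ζ := Complex.exp (2 * Real.pi * Complex.I / m)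
  have hm := hζ.pow_eq_one
  have h0 : ζ ≠ 0 := hζ.ne_zero hm0.ne'
  have fin : (∃ r : ℚ, ζ + ζ⁻¹ = r) → m ∣ 8 ∨ m ∣ 6 := by
    rintro ⟨r, hr⟩
    rcases pow_eq_one_of_rat hm0 hm hr with h | h
    · exact Or.inl ((hζ.dvd_of_pow_eq_one 4 h).trans (by norm_num))
    · exact Or.inr (hζ.dvd_of_pow_eq_one 6 h)
  by_cases h4 : ζ ^ 4 = 1
  · exact Or.inl ((hζ.dvd_of_pow_eq_one 4 h4).trans (by norm_num))
  have h2 : ζ ^ 2 ≠ 1 := fun h => h4 (by rw [show 4 = 2 * 2 by rfl, pow_mul, h, one_pow])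
  rcases Nat.even_or_odd m with hev | hod
  · have both : ∀ z : ℂ, z ^ m = 1 → z ^ 2 ≠ 1 →
        (∃ r : ℚ, (z - z⁻¹) ^ 2 = r) ∧ ∃ r : ℚ, α * β * (z + z⁻¹) = r := by
      intro z hz hz2
      obtain ⟨ρ, hρ⟩ := key z hz hz2
      obtain ⟨ρ', hρ'⟩ := key (-z) (by rw [hev.neg_pow, hz]) (by rwa [neg_sq])
      rw [inv_neg] at hρ'
      have h3 : ((ρ + ρ' : ℚ) : ℂ) * (z - z⁻¹) ^ 2 = ((2 * (r₁ + r₂) : ℚ) : ℂ) := by
        push_cast
        linear_combination -hρ - hρ' + 2 * e₁ + 2 * e₂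
      have h5 : ((ρ + ρ' : ℚ) : ℂ) ≠ 0 := by
        intro h
        rw [h, zero_mul, eq_comm, Rat.cast_eq_zero] at h3
        linarith
      have h6 : (z - z⁻¹) ^ 2 = ((2 * (r₁ + r₂) / (ρ + ρ') : ℚ) : ℂ) := by
        rw [Rat.cast_div, eq_div_iff h5, mul_comm, h3]
      refine ⟨⟨_, h6⟩, ρ * (2 * (r₁ + r₂) / (ρ + ρ')) - r₁ - r₂, ?_⟩
      rw [h6] at hρ
      rw [Rat.cast_sub, Rat.cast_sub, Rat.cast_mul]
      linear_combination hρ - e₁ - e₂
    obtain ⟨⟨s₁, hs₁⟩, s₂, hs₂⟩ := both ζ hm h2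
    obtain ⟨-, s₃, hs₃⟩ := both (ζ ^ 2) (by rw [← pow_mul, mul_comm, pow_mul, hm, one_pow])
      (by rwa [← pow_mul])
    have h7 : ζ ^ 2 + (ζ ^ 2)⁻¹ = ((s₁ + 2 : ℚ) : ℂ) := by
      push_cast
      rw [← hs₁]
      field_simp
      ring
    by_cases h8 : ((s₁ + 2 : ℚ) : ℂ) = 0
    · left
      apply hζ.dvd_of_pow_eq_one
      rw [h8] at h7
      field_simp at h7
      linear_combination (ζ ^ 4 - 1) * h7
    · apply fin
      have h9 : α * β = ((s₃ / (s₁ + 2) : ℚ) : ℂ) := by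
        rw [Rat.cast_div, eq_div_iff h8, ← h7, hs₃]
      refine ⟨s₂ / (s₃ / (s₁ + 2)), ?_⟩
      rw [Rat.cast_div, ← h9, eq_div_iff (mul_ne_zero hα0 hβ0), mul_comm, hs₂]
  · apply fin
    obtain ⟨ρ, hρ⟩ := key ζ hm h2
    have hab : β = α := by simp only [α, β, hodd hod]
    have h3 : ζ + ζ⁻¹ + 2 ≠ 0 := by
      intro h
      apply h2
      have : (ζ + 1) ^ 2 = 0 := by
        field_simp at h
        linear_combination h
      rw [eq_neg_of_add_eq_zero_left (pow_eq_zero_iff two_ne_zero |>.mp this)]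
      norm_num
    have h5 : (r₁ : ℂ) = ρ * (ζ + ζ⁻¹ - 2) := by
      apply mul_right_cancel₀ h3
      rw [hab] at hρ
      have hi := mul_inv_cancel₀ h0
      linear_combination hρ - (ζ + ζ⁻¹ + 2) * e₁ - 4 * ρ * hi
    have h6 : (ρ : ℂ) ≠ 0 := by
      intro h
      rw [h, zero_mul, Rat.cast_eq_zero] at h5
      exact hr₁.ne' h5
    refine ⟨r₁ / ρ + 2, ?_⟩
    push_cast
    rw [h5]
    field_simp
    ring

end CL.FH
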