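import Cfsg.Agent.Base
import Cfsg.Agent.FH.Mult
import Cfsg.Agent.BN.Basic
import Cfsg.Agent.Invol.Dihedral

/-!
The Feit-Higman theorem for finite groups with a (B,N)-pair of rank two.
-/

set_option autoImplicit false

namespace CL.FH

open Cfsg CL.BN Finset

variable {G : Type*} [Group G] (P : BNPair G)

/-- Relative position of two chambers. -/
def rel (w : W P) (x y : G ⧸ P.B) : Prop := x.out⁻¹ * y.out ∈ cell P w

theorem rel_mk (w : W P) (g h : G) :
    rel P w (QuotientGroup.mk g) (QuotientGroup.mk h) ↔ g⁻¹ * h ∈ cell P w := by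
  obtain ⟨b, hb⟩ := QuotientGroup.mk_out_eq_mul P.B g
  obtain ⟨c, hc⟩ := QuotientGroup.mk_out_eq_mul P.B h
  rw [rel, hb, hc]
  constructor
  · intro h1
    have := cell_mul_right (P.B.inv_mem c.2) (cell_mul_left b.2 h1)
    simpa [mul_assoc] using this
  · intro h1
    have := cell_mul_right c.2 (cell_mul_left (P.B.inv_mem b.2) h1)
    simpa [mul_assoc] using this

theorem rel_one (x y : G ⧸ P.B) : rel P 1 x y ↔ x = y := by
  rw [rel, mem_cell_one, ← QuotientGroup.eq, QuotientGroup.out_eq', QuotientGroup.out_eq']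

variable {P}

theorem rel_unique {w w' : W P} {x y : G ⧸ P.B} (h : rel P w x y) (h' : rel P w' x y) : w = w' :=
  eq_of_mem_cell h h'

theorem rel_s_symm {s : P.S} {x y : G ⧸ P.B} (h : rel P (sw P s) x y) : rel P (sw P s) y x := by
  have := cell_inv h
  rwa [sw_inv, mul_inv_rev, inv_inv] at this

theorem rel_s_mul {s : P.S} {w : W P} {x y z : G ⧸ P.B} (h : rel P (sw P s) x y) (h' : rel P w y z) :
    rel P (sw P s * w) x z ∨ rel P w x z := by
  have := cell_s_mul h h'
  rwa [mul_assoc, mul_inv_cancel_left] at this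

theorem rel_s_mul_of_mem {s : P.S} {w : W P} (hw : w ∈ (exch P).P s) {x y z : G ⧸ P.B}
    (h : rel P (sw P s) x y) (h' : rel P w y z) : rel P (sw P s * w) x z := by
  have := hw _ h _ h'
  rwa [mul_assoc, mul_inv_cancel_left] at this

theorem rel_mul_exists {w w' : W P} {x z : G ⧸ P.B} (h : rel P (w * w') x z) :
    ∃ y, rel P w x y ∧ rel P w' y z := by
  obtain ⟨a, ha, b, hb, hab⟩ := cell_mul_exists h
  refine ⟨QuotientGroup.mk (x.out * a), ?_, ?_⟩
  · conv => enter [3]; rw [← Quotient.out_eq' x]
    exact (rel_mk P w _ _).mpr (by simpa using ha)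
  · conv => enter [4]; rw [← Quotient.out_eq' z]
    refine (rel_mk P w' _ _).mpr ?_
    rw [mul_inv_rev, mul_assoc, hab, inv_mul_cancel_left]
    exact hb

theorem rel_s_s {s : P.S} {x y z : G ⧸ P.B} (h : rel P (sw P s) x y) (h' : rel P (sw P s) y z) :
    x = z ∨ rel P (sw P s) x z := by
  rcases rel_s_mul h h' with h1 | h1
  · rw [sw_sq, rel_one] at h1
    exact Or.inl h1
  · exact Or.inr h1

theorem not_rel_self {w : W P} (hw : w ≠ 1) (x : G ⧸ P.B) : ¬ rel P w x x :=
  fun h => hw (rel_unique h ((rel_one P x x).mpr rfl))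

theorem rel_smul (w : W P) (g : G) (x y : G ⧸ P.B) : rel P w (g • x) (g • y) ↔ rel P w x y := by
  obtain ⟨a, rfl⟩ := QuotientGroup.mk_surjective x
  obtain ⟨b, rfl⟩ := QuotientGroup.mk_surjective y
  rw [MulAction.Quotient.smul_mk, MulAction.Quotient.smul_mk, rel_mk, rel_mk, smul_eq_mul,
    smul_eq_mul, mul_inv_rev, mul_assoc, inv_mul_cancel_left]

variable (P)

open Classical in
/-- The adjacency matrix of a relative position. -/
noncomputable def adj (w : W P) : Matrix (G ⧸ P.B) (G ⧸ P.B) ℂ :=
  fun x y => if rel P w x y then 1 else 0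

variable [Fintype (G ⧸ P.B)] [DecidableEq (G ⧸ P.B)]

omit [Fintype (G ⧸ P.B)] in
theorem adj_one : adj P 1 = 1 := by
  ext x y
  simp only [adj, rel_one, Matrix.one_apply]

omit [DecidableEq (G ⧸ P.B)] in
theorem trace_adj {w : W P} (hw : w ≠ 1) : Matrix.trace (adj P w) = 0 :=
  sum_eq_zero fun x _ => if_neg (not_rel_self hw x)

omit [DecidableEq (G ⧸ P.B)] in
theorem adj_mul {s : P.S} {w : W P} (hw : w ∈ (exch P).P s) :
    adj P (sw P s) * adj P w = adj P (sw P s * w) := by
  ext x z
  rw [Matrix.mul_apply]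
  by_cases h : rel P (sw P s * w) x z
  · obtain ⟨y, h1, h2⟩ := rel_mul_exists h
    rw [sum_eq_single y]
    · simp [adj, h, h1, h2]
    · intro y' _ hne
      by_cases h3 : rel P (sw P s) x y'
      · have h4 : ¬ rel P w y' z := by
          intro h4
          have h5 := (rel_s_s (rel_s_symm h3) h1).resolve_left hne
          have h6 := rel_unique (rel_s_mul_of_mem hw h5 h2) h4
          exact sw_ne_one P s (by simpa using h6)
        simp [adj, h4]
      · simp [adj, h3]
    · simp
  · rw [sum_eq_zero]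
    · simp [adj, h]
    · intro y _
      by_cases h1 : rel P (sw P s) x y
      · have h2 : ¬ rel P w y z := fun h2 => h (rel_s_mul_of_mem hw h1 h2)
        simp [adj, h2]
      · simp [adj, h1]

theorem exists_valency (s : P.S) : ∃ p : ℕ, 2 ≤ p ∧ (∀ x, ∑ y, adj P (sw P s) x y = p) ∧
    adj P (sw P s) * adj P (sw P s) = ((p : ℂ) - 1) • adj P (sw P s) + (p : ℂ) • 1 := by
  classical
  let x₀ : G ⧸ P.B := QuotientGroup.mk 1
  have hrow : ∀ x, ∑ y, adj P (sw P s) x y = (univ.filter fun y => rel P (sw P s) x₀ y).card := by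
    intro x
    obtain ⟨g, rfl⟩ := QuotientGroup.mk_surjective x
    have e : (QuotientGroup.mk g : G ⧸ P.B) = g • x₀ := by
      simp [x₀]
    rw [e, ← Equiv.sum_comp (MulAction.toPerm g)]
    simp only [adj, MulAction.toPerm_apply, rel_smul]
    rw [card_filter]
    push_cast
    congr
  refine ⟨_, ?_, hrow, ?_⟩
  · obtain ⟨a, ha, b, hb, hab⟩ := exists_cell_s_mul_s P s
    refine one_lt_card.mpr ⟨QuotientGroup.mk a, ?_, QuotientGroup.mk (a * b), ?_, ?_⟩
    · simpa [x₀, rel_mk] using ha
    · simpa [x₀, rel_mk] using hab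
    · rw [Ne, QuotientGroup.eq, inv_mul_cancel_left, ← mem_cell_one]
      exact fun h => sw_ne_one P s (eq_of_mem_cell hb h)
  · ext x z
    rw [← hrow x, Matrix.mul_apply, Matrix.add_apply, Matrix.smul_apply, Matrix.smul_apply]
    by_cases hxz : x = z
    · subst hxz
      have h0 : adj P (sw P s) x x = 0 := if_neg (not_rel_self (sw_ne_one P s) x)
      rw [h0, Matrix.one_apply_eq, smul_zero, zero_add, smul_eq_mul, mul_one]
      refine sum_congr rfl fun y _ => ?_
      by_cases h : rel P (sw P s) x y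
      · simp [adj, h, rel_s_symm h]
      · simp [adj, h]
    rw [Matrix.one_apply_ne hxz, smul_zero, add_zero, smul_eq_mul]
    by_cases h : rel P (sw P s) x z
    · have e : ∀ y, adj P (sw P s) x y * adj P (sw P s) y z =
          adj P (sw P s) x y - if y = z then 1 else 0 := by
        intro y
        by_cases hy : y = z
        · subst hy
          simp [adj, h, not_rel_self (sw_ne_one P s) y]
        · by_cases h1 : rel P (sw P s) x y
          · simp [adj, h1, hy, (rel_s_s (rel_s_symm h1) h).resolve_left hy]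
          · simp [adj, h1, hy]
      simp only [e, sum_sub_distrib]
      simp [adj, h]
    · rw [sum_eq_zero]
      · simp [adj, h]
      · intro y _
        by_cases h1 : rel P (sw P s) x y
        · have h2 : ¬ rel P (sw P s) y z := fun h2 => h ((rel_s_s h1 h2).resolve_left hxz)
          simp [adj, h2]
        · simp [adj, h1]

section Words

variable {I V : Type*} [Group V] (D : ExchData I V) (σ : Bool → I) (hσ : Function.Surjective σ)

include hσ in
theorem eq_altW_of_reduced (l : List I) : ∀ i : Bool, D.Reduced (σ i :: l) →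
    σ i :: l = altW (σ i) (σ (!i)) (l.length + 1) := by
  induction l with
  | nil => intro i _; rfl
  | cons b l ih =>
    intro i h
    obtain ⟨j, rfl⟩ := hσ b
    have hj : j = !i := by
      by_contra hj
      have : j = i := by cases i <;> cases j <;> simp_all
      subst this
      exact h.tail.not_mem h.tail_mem
    subst hj
    rw [List.length_cons, altW, ih (!i) h.tail, Bool.not_not]

include hσ in
theorem altW_mem (k : ℕ) (hk : k < orderOf (D.s (σ true) * D.s (σ false))) (i : Bool) :
    D.Reduced (altW (σ i) (σ (!i)) k) ∧ wprod D.s (altW (σ i) (σ (!i)) k) ∈ D.P (σ (!i)) := by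
  have step : ∀ k, k < orderOf (D.s (σ true) * D.s (σ false)) → ∀ i,
      D.Reduced (altW (σ i) (σ (!i)) k) → wprod D.s (altW (σ i) (σ (!i)) k) ∈ D.P (σ (!i)) := by
    intro k hk i hred
    by_contra hnot
    have h1 := D.len_s_mul_of_not_mem hnot
    obtain ⟨l, hl, hl'⟩ := D.exists_reduced (D.s (σ (!i)) * wprod D.s (altW (σ i) (σ (!i)) k))
    have hlen : ∀ (a b : I) (n : ℕ), (altW a b n).length = n := by
      intro a b n
      induction n generalizing a b with
      | zero => rfl
      | succ n ih => rw [altW, List.length_cons, ih]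
    have h2 : wprod D.s (σ (!i) :: l) = wprod D.s (altW (σ i) (σ (!i)) k) := by
      rw [wprod_cons, hl', D.s_mul_s_mul]
    have h3 : l.length + 1 = k := by
      rw [← hl, hl', h1, hred, hlen]
    have h4 : D.Reduced (σ (!i) :: l) := by
      rw [ExchData.Reduced, h2, hred, hlen, List.length_cons, h3]
    rw [eq_altW_of_reduced D σ hσ l _ h4, h3, Bool.not_not] at h2
    have h5 := wprod_altW_mul_inv D.s D.sq k (σ true) (σ false)
    have h6 : wprod D.s (altW (σ true) (σ false) k) = wprod D.s (altW (σ false) (σ true) k) := by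
      cases i
      · exact h2
      · exact h2.symm
    rw [h6, mul_inv_cancel] at h5
    exact pow_ne_one_of_lt_orderOf (by omega) hk h5.symm
  induction k generalizing i with
  | zero => exact ⟨ExchData.Reduced.nil D, D.one_mem _⟩
  | succ k ih =>
    have h := ih (by omega) (!i)
    rw [Bool.not_not] at h
    have h1 : D.Reduced (altW (σ i) (σ (!i)) (k + 1)) := h.1.cons h.2
    exact ⟨h1, step _ hk i h1⟩

end Words

theorem wA_comm {R : Type*} [CommMonoid R] (f : Bool → R) (k : ℕ) : ∀ i,
    wA f i (2 * k) = (f true * f false) ^ k ∧ wA f i (2 * k + 1) = f i * (f true * f false) ^ k := by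
  induction k with
  | zero => intro i; simp [wA_zero, wA_succ]
  | succ k ih =>
    have h : ∀ i, wA f i (2 * (k + 1)) = (f true * f false) ^ (k + 1) := by
      intro i
      rw [show 2 * (k + 1) = 2 * k + 1 + 1 by ring, wA_succ, (ih _).2, pow_succ', ← mul_assoc]
      cases i
      · rw [mul_comm (f false)]; rfl
      · rfl
    intro i
    exact ⟨h i, by rw [wA_succ, h]⟩

omit [Fintype (G ⧸ P.B)] [DecidableEq (G ⧸ P.B)] in
theorem orderOf_dvd [Finite G] (σ : Bool → P.S) (hσ : Function.Surjective σ) :
    orderOf (sw P (σ true) * sw P (σ false)) ∣ 8 ∨ orderOf (sw P (σ true) * sw P (σ false)) ∣ 6 := by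
  classical
  let : Fintype (G ⧸ P.B) := Fintype.ofFinite _
  set m := orderOf (sw P (σ true) * sw P (σ false)) with hm
  have hm0 : 0 < m := orderOf_pos _
  choose p hp2 hrow hsq using fun i => exists_valency P (σ i)
  let a : Bool → ℂ := fun i => (Real.sqrt (p i) : ℂ)
  have hap : ∀ i, a i ^ 2 = p i := fun i => by
    simp only [a]
    rw [← Complex.ofReal_pow, Real.sq_sqrt (Nat.cast_nonneg _), Complex.ofReal_natCast]
  have hp0 : ∀ i, (p i : ℂ) ≠ 0 := fun i => Nat.cast_ne_zero.mpr (by have := hp2 i; omega)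
  have ha : ∀ i, a i ≠ 0 := fun i h => hp0 i (by rw [← hap, h]; simp)
  let T : Bool → Matrix (G ⧸ P.B) (G ⧸ P.B) ℂ := fun i => adj P (sw P (σ i))
  have hT : ∀ k, k ≤ m → ∀ i, wA T i k = adj P (wprod (sw P) (altW (σ i) (σ (!i)) k)) := by
    intro k
    induction k with
    | zero => intro _ i; rw [wA_zero, altW, wprod_nil, adj_one]
    | succ k ih =>
      intro hk i
      have h := (altW_mem (exch P) σ hσ k (by exact hk) (!i)).2
      rw [Bool.not_not] at h
      rw [wA_succ, ih (by omega), Bool.not_not, altW, wprod_cons]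
      exact adj_mul P h
  have hbT : wA T true m = wA T false m := by
    rw [hT m le_rfl, hT m le_rfl]
    congr 1
    have := wprod_altW_mul_inv (sw P) (sw_sq P) m (σ true) (σ false)
    rw [pow_orderOf_eq_one, mul_inv_eq_one] at this
    exact this
  have hy : ∀ k i, wA (fun i => (a i)⁻¹ • T i) i k = wA (fun i => (a i)⁻¹) i k • wA T i k := by
    intro k
    induction k with
    | zero => intro i; simp [wA_zero]
    | succ k ih => intro i; rw [wA_succ, wA_succ, wA_succ, ih, smul_mul_smul_comm]
  have hodd : Odd m → a true = a false := by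
    rintro ⟨r, hr⟩
    have hone : ∀ k i, (wA T i k).mulVec 1 = wA (fun i => (p i : ℂ)) i k • 1 := by
      intro k
      induction k with
      | zero => intro i; simp [wA_zero]
      | succ k ih =>
        intro i
        rw [wA_succ, wA_succ, ← Matrix.mulVec_mulVec, ih, Matrix.mulVec_smul, mul_comm, mul_smul]
        congr 1
        ext x
        simpa [Matrix.mulVec, dotProduct] using hrow i x
    have h1 := hone m true
    rw [hbT, hone] at h1
    have h2 := congrFun h1 (QuotientGroup.mk 1)
    simp only [Pi.smul_apply, Pi.one_apply, smul_eq_mul, mul_one] at h2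
    rw [hr, (wA_comm _ r _).2, (wA_comm _ r _).2,
      mul_left_inj' (pow_ne_zero _ (mul_ne_zero (hp0 _) (hp0 _))), Nat.cast_inj] at h2
    simp only [a, h2]
  refine dvd_eight_or_dvd_six (fun i => (a i)⁻¹ • T i) hp2 hap (fun i => ?_) hm0 ?_ ?_ hodd
  · rw [smul_mul_smul_comm, hsq, smul_add, smul_smul, smul_smul, smul_smul, ← hap]
    have := ha i
    congr 1
    · congr 1
      field_simp
    · rw [show (a i)⁻¹ * (a i)⁻¹ * a i ^ 2 = 1 by field_simp, one_smul]
  · rw [hy, hy, hbT]
    congr 1
    rcases Nat.even_or_odd' m with ⟨r, hr | hr⟩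
    · rw [hr, (wA_comm _ r _).1, (wA_comm _ r _).1]
    · rw [hr, (wA_comm _ r _).2, (wA_comm _ r _).2, hodd ⟨r, hr⟩]
  · intro i k hk0 hk
    rw [hy, Matrix.trace_smul, hT k hk, trace_adj, smul_zero]
    obtain ⟨k, rfl⟩ := Nat.exists_eq_succ_of_ne_zero hk0.ne'
    have h := altW_mem (exch P) σ hσ k (by exact hk) (!i)
    rw [Bool.not_not] at h
    intro h1
    have h2 := (h.1.cons h.2).not_mem
    rw [altW] at h1
    exact h2 (by rw [exch_s, h1]; exact (exch P).one_mem _)

omit [Fintype (G ⧸ P.B)] [DecidableEq (G ⧸ P.B)] in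
/-- The Feit-Higman theorem. -/
theorem card_W [Finite G] (h2 : P.rank = 2) : Nat.card (W P) ∈ ({4, 6, 8, 12, 16} : Set ℕ) := by
  obtain ⟨s, t, hst, huniv⟩ := Nat.card_eq_two_iff.mp h2
  let σ : Bool → P.S := fun i => if i then s else t
  have hσ : Function.Surjective σ := by
    intro x
    have : x ∈ ({s, t} : Set P.S) := huniv ▸ Set.mem_univ x
    rcases this with rfl | rfl
    · exact ⟨true, rfl⟩
    · exact ⟨false, rfl⟩
  have hdvd : orderOf (sw P s * sw P t) ∣ 8 ∨ orderOf (sw P s * sw P t) ∣ 6 := orderOf_dvd P σ hσ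
  have ho : ∀ s, orderOf (sw P s) = 2 := fun s =>
    orderOf_eq_prime (by rw [pow_two, sw_sq]) (sw_ne_one P s)
  have hcard := CL.Invol.card_closure_pair (ho s) (ho t)
  have htop : Subgroup.closure ({sw P s, sw P t} : Set (W P)) = ⊤ := by
    rw [eq_top_iff]
    rintro w -
    obtain ⟨l, rfl⟩ := exists_word P w
    induction l with
    | nil => exact one_mem _
    | cons x l ih =>
      rw [wprod_cons]
      refine mul_mem (Subgroup.subset_closure ?_) ih
      have : x ∈ ({s, t} : Set P.S) := huniv ▸ Set.mem_univ x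
      rcases this with rfl | rfl
      · exact Or.inl rfl
      · exact Or.inr rfl
  rw [htop, Subgroup.card_top] at hcard
  have h1 : orderOf (sw P s * sw P t) ≠ 1 := by
    rw [Ne, orderOf_eq_one_iff, mul_eq_one_iff_eq_inv, sw_inv]
    exact fun h => hst (sw_injective P h)
  rw [hcard]
  generalize orderOf (sw P s * sw P t) = m at hdvd h1
  rcases hdvd with h | h
  · have := Nat.le_of_dvd (by norm_num) h
    interval_cases m <;> simp_all
  · have := Nat.le_of_dvd (by norm_num) h
    interval_cases m <;> simp_all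

end CL.FH
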